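import Groth.Agent.Heart43.Basic
import Mathlib.CategoryTheory.Idempotents.Basic
import Mathlib.CategoryTheory.Triangulated.TStructure.TruncLTGE

/-! Idempotents split in a triangulated category with a bounded t-structure. -/

set_option autoImplicit false
universe v u v' u'

namespace Groth.Agent.Tri43

open CategoryTheory CategoryTheory.Limits CategoryTheory.Pretriangulated CategoryTheory.Triangulated

variable {C : Type u} [Category.{v} C] [Preadditive C]

/-- The idempotent `e` is split. -/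
def Splits {X : C} (e : X ⟶ X) : Prop :=
  ∃ (Y : C) (i : Y ⟶ X) (r : X ⟶ Y), i ≫ r = 𝟙 Y ∧ r ≫ i = e

theorem splits_of_sq_zero {X : C} (e e' : X ⟶ X) (he : e ≫ e = e) (he' : Splits e')
    (hd : (e - e') ≫ (e - e') = 0) : Splits e := by
  obtain ⟨Y, i, r, hir, hri⟩ := he'
  have he'' : e' ≫ e' = e' := by rw [← hri, Category.assoc, reassoc_of% hir]
  let a : CategoryTheory.End X := e
  let b : CategoryTheory.End X := e'
  have ha : a * a = a := he
  have hb : b * b = b := he''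
  have hab : (a - b) * (a - b) = 0 := hd
  have hsum : a - a * b - b * a + b = 0 := by
    rw [← hab]
    simp only [sub_mul, mul_sub, ha, hb]
    abel
  let u : X ⟶ X := e ≫ e' + (𝟙 X - e) ≫ (𝟙 X - e')
  let v : X ⟶ X := e' ≫ e + (𝟙 X - e') ≫ (𝟙 X - e)
  have hsum' : e - e' ≫ e - e ≫ e' + e' = 0 := hsum
  have eu : e ≫ u = u ≫ e' := by
    simp [u, reassoc_of% he, he'', he]
  have huv : u ≫ v = 𝟙 X := by
    have h1 : e ≫ e - e ≫ e' ≫ e - e ≫ e ≫ e' + e ≫ e' = 0 := by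
      have h := congrArg (e ≫ ·) hsum'
      simpa [Preadditive.comp_add, Preadditive.comp_sub] using h
    have h2 : e ≫ e' ≫ e = e := by
      simp only [reassoc_of% he, he] at h1
      have h3 : e - e ≫ e' ≫ e = 0 := by rw [← h1]; abel
      exact (sub_eq_zero.1 h3).symm
    calc u ≫ v = e ≫ e' ≫ e + (𝟙 X - e) ≫ (𝟙 X - e') ≫ (𝟙 X - e) := by
          simp only [u, v, Preadditive.add_comp, Preadditive.comp_add, Preadditive.sub_comp,
            Preadditive.comp_sub, Category.id_comp, Category.comp_id, Category.assoc,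
            reassoc_of% he'', he'']
          abel
      _ = 𝟙 X - (e - e' ≫ e - e ≫ e' + e') + (e ≫ e' ≫ e - e) + (e ≫ e' ≫ e - e) +
            (e - e ≫ e' ≫ e) + (e - e ≫ e' ≫ e) := by
          simp only [Preadditive.sub_comp, Preadditive.comp_sub, Category.id_comp, Category.comp_id,
            Category.assoc, he]
          abel
      _ = 𝟙 X := by rw [hsum', h2]; abel
  refine ⟨Y, i ≫ v, u ≫ r, ?_, ?_⟩
  · have hvu : v ≫ u = 𝟙 X := by
      have h1 : e' ≫ e - e' ≫ e' ≫ e - e' ≫ e ≫ e' + e' ≫ e' = 0 := by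
        have h := congrArg (e' ≫ ·) hsum'
        simpa [Preadditive.comp_add, Preadditive.comp_sub] using h
      have h2 : e' ≫ e ≫ e' = e' := by
        simp only [reassoc_of% he'', he''] at h1
        have h3 : e' - e' ≫ e ≫ e' = 0 := by rw [← h1]; abel
        exact (sub_eq_zero.1 h3).symm
      calc v ≫ u = e' ≫ e ≫ e' + (𝟙 X - e') ≫ (𝟙 X - e) ≫ (𝟙 X - e') := by
            simp only [u, v, Preadditive.add_comp, Preadditive.comp_add, Preadditive.sub_comp,
              Preadditive.comp_sub, Category.id_comp, Category.comp_id, Category.assoc,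
              reassoc_of% he, he]
            abel
        _ = 𝟙 X - (e - e' ≫ e - e ≫ e' + e') + (e' ≫ e ≫ e' - e') + (e' ≫ e ≫ e' - e') +
              (e' - e' ≫ e ≫ e') + (e' - e' ≫ e ≫ e') := by
            simp only [Preadditive.sub_comp, Preadditive.comp_sub, Category.id_comp,
              Category.comp_id, Category.assoc, he'']
            abel
        _ = 𝟙 X := by rw [hsum', h2]; abel
    rw [Category.assoc, reassoc_of% hvu, hir]
  · rw [Category.assoc, reassoc_of% hri, ← Category.assoc, ← eu, Category.assoc, huv,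
      Category.comp_id]

theorem Splits.map {D : Type u'} [Category.{v'} D] [Preadditive D] (F : C ⥤ D) {X : C}
    {e : X ⟶ X} (h : Splits e) : Splits (F.map e) := by
  obtain ⟨Y, i, r, h₁, h₂⟩ := h
  exact ⟨F.obj Y, F.map i, F.map r, by rw [← F.map_comp, h₁, F.map_id],
    by rw [← F.map_comp, h₂]⟩

theorem Splits.of_iso {X X' : C} (φ : X ≅ X') {e : X ⟶ X} {e' : X' ⟶ X'}
    (h : Splits e) (hc : φ.hom ≫ e' = e ≫ φ.hom) : Splits e' := by
  obtain ⟨Y, i, r, h₁, h₂⟩ := h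
  refine ⟨Y, i ≫ φ.hom, φ.inv ≫ r, by simp [h₁], ?_⟩
  rw [Category.assoc, reassoc_of% h₂, ← hc, Iso.inv_hom_id_assoc]

variable [HasZeroObject C] [HasShift C ℤ] [∀ n : ℤ, (shiftFunctor C n).Additive] [Pretriangulated C]

theorem splits_of_triangle (T : Triangle C) (hT : T ∈ distTriang C) (φ : T ⟶ T)
    (he : φ.hom₂ ≫ φ.hom₂ = φ.hom₂) (h₁ : Splits φ.hom₁) (h₃ : Splits φ.hom₃) :
    Splits φ.hom₂ := by
  obtain ⟨A', iA, pA, hA₁, hA₂⟩ := h₁
  obtain ⟨B', iB, pB, hB₁, hB₂⟩ := h₃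
  obtain ⟨X', f', g', hT'⟩ := distinguished_cocone_triangle₂ (iB ≫ T.mor₃ ≫ pA⟦(1 : ℤ)⟧')
  have hc := φ.comm₃
  obtain ⟨i, hi₁, hi₂⟩ : ∃ i : X' ⟶ T.obj₂, f' ≫ i = iA ≫ T.mor₁ ∧ g' ≫ iB = i ≫ T.mor₂ :=
    complete_distinguished_triangle_morphism₂ _ _ hT' hT iA iB (by
      change (iB ≫ T.mor₃ ≫ pA⟦(1 : ℤ)⟧') ≫ iA⟦(1 : ℤ)⟧' = iB ≫ T.mor₃
      rw [Category.assoc, Category.assoc, ← Functor.map_comp, hA₂, hc, ← hB₂, Category.assoc,
        reassoc_of% hB₁])
  obtain ⟨p, hp₁, hp₂⟩ : ∃ p : T.obj₂ ⟶ X', T.mor₁ ≫ p = pA ≫ f' ∧ T.mor₂ ≫ pB = p ≫ g' :=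
    complete_distinguished_triangle_morphism₂ _ _ hT hT' pA pB (by
      change T.mor₃ ≫ pA⟦(1 : ℤ)⟧' = pB ≫ iB ≫ T.mor₃ ≫ pA⟦(1 : ℤ)⟧'
      rw [← Category.assoc pB, hB₂, ← reassoc_of% hc, ← Functor.map_comp, ← hA₂, Category.assoc,
        hA₁, Category.comp_id])
  have hiso : IsIso (i ≫ p) := by
    let ψ : Triangle.mk f' g' (iB ≫ T.mor₃ ≫ pA⟦(1 : ℤ)⟧') ⟶
        Triangle.mk f' g' (iB ≫ T.mor₃ ≫ pA⟦(1 : ℤ)⟧') :=
      { hom₁ := 𝟙 A'
        hom₂ := i ≫ p
        hom₃ := 𝟙 B'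
        comm₁ := by
          change f' ≫ i ≫ p = 𝟙 A' ≫ f'
          rw [reassoc_of% hi₁, hp₁, ← Category.assoc, hA₁]
        comm₂ := by
          change g' ≫ 𝟙 B' = (i ≫ p) ≫ g'
          rw [Category.assoc, ← hp₂, ← reassoc_of% hi₂, hB₁]
        comm₃ := by
          change (iB ≫ T.mor₃ ≫ pA⟦(1 : ℤ)⟧') ≫ (𝟙 A')⟦(1 : ℤ)⟧' = 𝟙 B' ≫ _
          rw [CategoryTheory.Functor.map_id, Category.comp_id, Category.id_comp]
          rfl }
    exact isIso₂_of_isIso₁₃ ψ hT' hT' (inferInstanceAs (IsIso (𝟙 A'))) (inferInstanceAs (IsIso (𝟙 B')))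
  let r := p ≫ inv (i ≫ p)
  have hir : i ≫ r = 𝟙 X' := by simp only [r, ← Category.assoc, IsIso.hom_inv_id]
  have hf : f' ≫ inv (i ≫ p) = f' := by
    rw [IsIso.comp_inv_eq, reassoc_of% hi₁, hp₁, ← Category.assoc, hA₁, Category.id_comp]
  have hg : inv (i ≫ p) ≫ g' = g' := by
    rw [IsIso.inv_comp_eq, Category.assoc, ← hp₂, ← reassoc_of% hi₂, hB₁, Category.comp_id]
  refine splits_of_sq_zero φ.hom₂ (r ≫ i) he ⟨X', i, r, hir, rfl⟩ ?_
  have hd₁ : T.mor₁ ≫ (φ.hom₂ - r ≫ i) = 0 := by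
    simp only [r, Preadditive.comp_sub, φ.comm₁, Category.assoc]
    rw [reassoc_of% hp₁, reassoc_of% hf, hi₁, ← Category.assoc, hA₂, sub_self]
  have hd₂ : (φ.hom₂ - r ≫ i) ≫ T.mor₂ = 0 := by
    simp only [r, Preadditive.sub_comp, ← φ.comm₂, Category.assoc]
    rw [← hi₂, reassoc_of% hg, ← reassoc_of% hp₂, hB₂, sub_self]
  obtain ⟨a, ha⟩ := Triangle.coyoneda_exact₂ _ hT _ hd₂
  calc (φ.hom₂ - r ≫ i) ≫ (φ.hom₂ - r ≫ i) = a ≫ T.mor₁ ≫ (φ.hom₂ - r ≫ i) := by
        rw [← Category.assoc a, ← ha]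
    _ = 0 := by rw [hd₁, comp_zero]

variable [IsTriangulated C] (t : TStructure C)

theorem splits_pure (X : C) (a : ℤ) (hge : t.IsGE X a) (hle : t.IsLE X a)
    (e : X ⟶ X) (he : e ≫ e = e) : Splits e := by
  let _ : t.Heart t.heart.FullSubcategory := t.hasHeartFullSubcategory
  let _ : Abelian t.heart.FullSubcategory := Groth.Agent.Heart43.abelianHeart t
  have h₁ := t.isLE_shift X a a 0 (by lia)
  have h₂ := t.isGE_shift X a a 0 (by lia)
  let Z : t.heart.FullSubcategory := ⟨X⟦a⟧, (t.mem_heart_iff _).2 ⟨h₁, h₂⟩⟩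
  let ε : Z ⟶ Z := ObjectProperty.homMk (e⟦a⟧')
  obtain ⟨Y, i, r, hir, hri⟩ := IsIdempotentComplete.idempotents_split Z ε
    (ObjectProperty.hom_ext _ (show e⟦a⟧' ≫ e⟦a⟧' = e⟦a⟧' by rw [← Functor.map_comp, he]))
  have hs : Splits (e⟦a⟧') := Splits.map t.heart.ι (e := ε) ⟨Y, i, r, hir, hri⟩
  exact (hs.map (shiftFunctor C (-a))).of_iso (shiftShiftNeg X a)
    ((shiftEquiv C a).unitIso.inv.naturality e).symm

theorem splits_of_amplitude (n : ℕ) (X : C) (a : ℤ) (hge : t.IsGE X a) (hle : t.IsLE X (a + n))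
    (e : X ⟶ X) (he : e ≫ e = e) : Splits e := by
  induction n generalizing X with
  | zero => exact splits_pure t X a hge (by simpa using hle) e he
  | succ n ih =>
    have : t.IsGE X a := hge
    have : t.IsLE X (a + (n + 1 : ℕ)) := hle
    let b : ℤ := a + (n + 1 : ℕ)
    let φ : (t.triangleLTGE b).obj X ⟶ (t.triangleLTGE b).obj X := (t.triangleLTGE b).map e
    have h₁ : Splits (((t.truncLT b).map e)) :=
      ih _ inferInstance (t.isLE_truncLT_obj X b (a + n) (by simp [b]; omega))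
        ((t.truncLT b).map e) (by rw [← Functor.map_comp, he])
    have h₃ : Splits (((t.truncGE b).map e)) :=
      splits_pure t _ b inferInstance inferInstance _ (by rw [← Functor.map_comp, he])
    exact splits_of_triangle _ (t.triangleLTGE_distinguished b X) φ
      (show e ≫ e = e from he) h₁ h₃

include t in
theorem isIdempotentComplete (hb : ∀ X : C, t.bounded X) : IsIdempotentComplete C := by
  refine ⟨fun X e he => ?_⟩
  obtain ⟨⟨a, ha⟩, ⟨b, hb'⟩⟩ := hb X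
  obtain ⟨n, hn⟩ : ∃ n : ℕ, b ≤ a + n := ⟨(b - a).toNat, by omega⟩
  exact splits_of_amplitude t n X a ha (t.isLE_of_le X b _ hn) e he

end Groth.Agent.Tri43
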